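import Cfsg.Agent.Lib.ZJFusion.Main
import Cfsg.Agent.Lib.Involution.BaerSuzuki

/-!
# Normal Sylow 2-subgroups and inverted elements of odd order (namespace `Cfsg.Agent.TwoClosedInverted`)

* `normal_sylow_subgroup` : subgroups inherit a normal Sylow 2-subgroup;
* `eq_one_of_inverted` : no nontrivial element of odd order is inverted;
* `exists_inverted` : without a normal Sylow 2-subgroup some element of odd prime order is inverted;
* `exists_inverted_normalizer` : inversion of a `p`-element is visible in `N(Z(J(T)))`.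
-/

set_option autoImplicit false

namespace Cfsg.Agent.TwoClosedInverted

open Subgroup
open scoped Pointwise

universe u

variable {G : Type u} [Group G] [Finite G]

theorem normal_sylow_subgroup (h : ∀ P : Sylow 2 G, (P : Subgroup G).Normal) (N : Subgroup G)
    (Q : Sylow 2 ↥N) : (Q : Subgroup ↥N).Normal := by
  obtain ⟨P⟩ : Nonempty (Sylow 2 G) := inferInstance
  have := h P
  have hQ : (Q : Subgroup ↥N) ≤ (P : Subgroup G).subgroupOf N := by
    obtain ⟨R, hR⟩ := (Q.isPGroup'.map N.subtype).exists_le_sylow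
    have hRP : IsPGroup 2 ↥((R : Subgroup G) ⊔ (P : Subgroup G)) :=
      R.isPGroup'.to_sup_of_normal_right P.isPGroup'
    exact Subgroup.map_le_iff_le_comap.1
      (hR.trans (le_sup_left.trans (P.is_maximal' hRP le_sup_right).le))
  have hp : IsPGroup 2 ↥((P : Subgroup G).subgroupOf N) :=
    P.isPGroup'.comap_of_injective _ N.subtype_injective
  rw [← Q.is_maximal' hp hQ]
  exact Normal.subgroupOf ‹_› N

theorem eq_one_of_inverted (h : ∀ P : Sylow 2 G, (P : Subgroup G).Normal) {x g : G}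
    (hx : Odd (orderOf x)) (hinv : g * x * g⁻¹ = x⁻¹) : x = 1 := by
  obtain ⟨P⟩ : Nonempty (Sylow 2 G) := inferInstance
  have := h P
  have hodd : Odd (Nat.card (G ⧸ (P : Subgroup G))) := by
    rw [Nat.odd_iff, ← Nat.two_dvd_ne_zero]
    exact P.not_dvd_index
  set m := Nat.card (G ⧸ (P : Subgroup G))
  have hk : ∀ k : ℕ, g ^ k * x * (g ^ k)⁻¹ = if Even k then x else x⁻¹ := by
    intro k
    induction k with
    | zero => simp
    | succ k ih =>
      rw [pow_succ', show g * g ^ k * x * (g * g ^ k)⁻¹ = g * (g ^ k * x * (g ^ k)⁻¹) * g⁻¹ by group, ih]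
      by_cases hk : Even k
      · rw [if_pos hk, if_neg (by simpa [Nat.even_add_one] using hk), hinv]
      · rw [if_neg hk, if_pos (by simpa [Nat.even_add_one] using hk)]
        rw [show g * x⁻¹ * g⁻¹ = (g * x * g⁻¹)⁻¹ by group, hinv, inv_inv]
  have h1 := congrArg (QuotientGroup.mk' (P : Subgroup G)) (hk m)
  rw [if_neg (Nat.not_even_iff_odd.2 hodd), map_mul, map_mul, map_inv, map_inv, map_pow,
    pow_card_eq_one', one_mul, inv_one, mul_one] at h1
  have h2 : x ^ 2 ∈ (P : Subgroup G) := by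
    refine (QuotientGroup.eq_one_iff _).1 ?_
    show QuotientGroup.mk' (P : Subgroup G) (x ^ 2) = 1
    rw [map_pow, pow_two]
    nth_rw 2 [h1]
    exact mul_inv_cancel _
  obtain ⟨j, hj⟩ := P.isPGroup' ⟨x ^ 2, h2⟩
  have hj' : (x ^ 2) ^ 2 ^ j = 1 := by simpa using congrArg Subtype.val hj
  rw [← pow_mul, ← pow_succ'] at hj'
  have hd := orderOf_dvd_of_pow_eq_one hj'
  have hc : (orderOf x).Coprime (2 ^ (j + 1)) := Nat.Coprime.pow_right _ (Nat.coprime_two_right.2 hx)
  exact orderOf_eq_one_iff.1 (hc.eq_one_of_dvd hd)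

theorem exists_inverted (h : ¬ ∀ P : Sylow 2 G, (P : Subgroup G).Normal) :
    ∃ (q : ℕ) (_ : q.Prime) (x g : G), q ≠ 2 ∧ orderOf x = q ∧ g * x * g⁻¹ = x⁻¹ := by
  push_neg at h
  obtain ⟨P, hP⟩ := h
  set O := (P : Subgroup G).normalCore
  have hOp : IsPGroup 2 ↥O := P.isPGroup'.to_le (normalCore_le _)
  set π := QuotientGroup.mk' O
  -- the quotient has an involution
  have h2 : 2 ∣ Nat.card (G ⧸ O) := by
    by_contra h2
    apply hP
    have hPO : (P : Subgroup G) ≤ O := by
      intro y hy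
      obtain ⟨j, hj⟩ := P.isPGroup' ⟨y, hy⟩
      have hj' : y ^ 2 ^ j = 1 := by simpa using congrArg Subtype.val hj
      refine (QuotientGroup.eq_one_iff y).1 ?_
      have h3 : orderOf (π y) ∣ 2 ^ j := orderOf_dvd_of_pow_eq_one (by rw [← map_pow, hj', map_one])
      have h4 : orderOf (π y) ∣ Nat.card (G ⧸ O) := orderOf_dvd_natCard _
      have h5 : (2 ^ j).Coprime (Nat.card (G ⧸ O)) :=
        Nat.Coprime.pow_left _ ((Nat.Prime.coprime_iff_not_dvd Nat.prime_two).2 h2)
      exact orderOf_eq_one_iff.1 (Nat.eq_one_of_dvd_coprimes h5 h3 h4)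
    rw [le_antisymm hPO (normalCore_le _)]
    exact normalCore_normal _
  obtain ⟨t, ht⟩ := exists_prime_orderOf_dvd_card' 2 h2
  have htne : t ≠ 1 := fun h1 => by rw [h1, orderOf_one] at ht; omega
  -- some product of two conjugates is not a 2-element
  obtain ⟨c, hc⟩ : ∃ c : G ⧸ O, ¬ ∃ j : ℕ, (t * (c * t * c⁻¹)) ^ 2 ^ j = 1 := by
    by_contra! hall
    apply htne
    have hpair : ∀ c : G ⧸ O, IsPGroup 2 ↥(closure ({t, c * t * c⁻¹} : Set (G ⧸ O))) := by
      intro c
      obtain ⟨j, hj⟩ := hall c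
      set s := c * t * c⁻¹
      have htt : t * t = 1 := by have := pow_orderOf_eq_one t; rwa [ht, pow_two] at this
      have hss : s * s = 1 := by
        simp only [s]
        rw [show c * t * c⁻¹ * (c * t * c⁻¹) = c * (t * t) * c⁻¹ by group, htt]; group
      have hD : IsPGroup 2 ↥(zpowers (t * s)) := by
        refine IsPGroup.of_card (n := (Nat.factorization (orderOf (t * s))) 2) ?_
        obtain ⟨i, -, hi⟩ := (Nat.dvd_prime_pow Nat.prime_two).1 (orderOf_dvd_of_pow_eq_one hj)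
        rw [Nat.card_zpowers, hi, Nat.prime_two.factorization_pow, Finsupp.single_eq_same]
      have htN : zpowers t ≤ normalizer ((zpowers (t * s) : Subgroup (G ⧸ O)) : Set (G ⧸ O)) := by
        rw [zpowers_le]
        refine mem_normalizer_fintype fun y hy => ?_
        obtain ⟨i, rfl⟩ := mem_zpowers_iff.1 hy
        have h6 : t * (t * s) * t⁻¹ = (t * s)⁻¹ := by
          rw [inv_eq_of_mul_eq_one_right htt, mul_inv_rev, inv_eq_of_mul_eq_one_right htt,
            inv_eq_of_mul_eq_one_right hss, ← mul_assoc, htt, one_mul]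
        rw [← conj_zpow, h6]
        exact zpow_mem (inv_mem (mem_zpowers _)) i
      have hT : IsPGroup 2 ↥(zpowers t) := IsPGroup.of_card (n := 1) (by rw [Nat.card_zpowers, ht, pow_one])
      refine (hT.to_sup_of_normal_right' hD htN).to_le ((closure_le _).2 ?_)
      rintro y (rfl | rfl)
      · exact mem_sup_left (mem_zpowers _)
      · have h7 := mul_mem (mem_sup_left (mem_zpowers t) :
          t ∈ zpowers t ⊔ zpowers (t * s)) (mem_sup_right (mem_zpowers (t * s)))
        have h7' : t * (t * s) = s := by rw [← mul_assoc, htt, one_mul]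
        rw [h7'] at h7
        exact h7
    have hN := Involution.baer_suzuki_element t hpair
    set M := (normalClosure ({t} : Set (G ⧸ O))).comap π with hMdef
    have hMp : IsPGroup 2 ↥M := hN.comap_of_ker_isPGroup π (by rwa [QuotientGroup.ker_mk'])
    have hMn : M.Normal := normalClosure_normal.comap _
    have hMO : M ≤ O := Subgroup.normal_le_normalCore.2 (le_of_eq_of_le rfl (by
      obtain ⟨R, hR⟩ := hMp.exists_le_sylow
      obtain ⟨y, hy⟩ := MulAction.exists_smul_eq G R P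
      intro m hm
      rw [← hy]
      have : y⁻¹ * m * y ∈ (R : Subgroup G) := hR (by simpa using hMn.conj_mem m hm y⁻¹)
      rw [show (((y • R : Sylow 2 G)) : Subgroup G) = MulAut.conj y • (R : Subgroup G) from rfl,
        Subgroup.mem_pointwise_smul_iff_inv_smul_mem]
      simpa [MulAut.smul_def] using this))
    obtain ⟨t₀, rfl⟩ := QuotientGroup.mk'_surjective O t
    exact (QuotientGroup.eq_one_iff t₀).2 (hMO (subset_normalClosure rfl))
  set d := t * (c * t * c⁻¹) with hd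
  obtain ⟨q, hq, hqd, hq2⟩ : ∃ q : ℕ, q.Prime ∧ q ∣ orderOf d ∧ q ≠ 2 := by
    by_contra! hall
    obtain ⟨j, hj⟩ : ∃ j, orderOf d = 2 ^ j :=
      ⟨_, Nat.eq_prime_pow_of_unique_prime_dvd (orderOf_pos d).ne' fun {r} hr hrd => hall r hr hrd⟩
    exact hc ⟨j, by rw [← hj]; exact pow_orderOf_eq_one d⟩
  obtain ⟨y, i, hyd, hy⟩ : ∃ (y : G ⧸ O) (i : ℕ), y = d ^ i ∧ orderOf y = q :=
    ⟨d ^ (orderOf d / q), _, rfl, orderOf_pow_orderOf_div (orderOf_pos d).ne' hqd⟩
  have htt : t * t = 1 := by have := pow_orderOf_eq_one t; rwa [ht, pow_two] at this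
  have hty : t * y * t⁻¹ = y⁻¹ := by
    rw [hyd, ← conj_pow, ← inv_pow]
    congr 1
    rw [hd, inv_eq_of_mul_eq_one_right htt, mul_inv_rev, mul_inv_rev, mul_inv_rev, inv_inv,
      inv_eq_of_mul_eq_one_right htt, ← mul_assoc, htt, one_mul]
    group
  -- lift
  haveI : Fact q.Prime := ⟨hq⟩
  set K := (zpowers y).comap π
  have hOK : O ≤ K := fun o ho => by
    show π o ∈ zpowers y
    rw [show π o = 1 from (QuotientGroup.eq_one_iff o).2 ho]
    exact one_mem _
  obtain ⟨a, ha⟩ := hOp.exists_card_eq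
  have hKcard : Nat.card ↥K = q * 2 ^ a := by
    have hmap : K.map π = zpowers y := map_comap_eq_self_of_surjective (QuotientGroup.mk'_surjective O) _
    have h8 := Subgroup.card_eq_card_quotient_mul_card_subgroup (O.subgroupOf K)
    rw [Nat.card_congr (subgroupOfEquivOfLe hOK).toEquiv, ha] at h8
    rw [h8]
    congr 1
    let f : ↥K →* ↥(zpowers y) := (π.comp K.subtype).codRestrict _ fun k => k.2
    have hker : f.ker = O.subgroupOf K := by
      ext k
      rw [MonoidHom.mem_ker, mem_subgroupOf]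
      exact ⟨fun h => (QuotientGroup.eq_one_iff (k : G)).1 (congrArg Subtype.val h),
        fun h => Subtype.ext ((QuotientGroup.eq_one_iff (k : G)).2 h)⟩
    have hsurj : Function.Surjective f := by
      rintro ⟨z, hz⟩
      obtain ⟨z₀, rfl⟩ := QuotientGroup.mk'_surjective O z
      exact ⟨⟨z₀, hz⟩, rfl⟩
    rw [← hker, Nat.card_congr (QuotientGroup.quotientKerEquivOfSurjective f hsurj).toEquiv,
      Nat.card_zpowers, hy]
  obtain ⟨S⟩ : Nonempty (Sylow q ↥K) := inferInstance
  have hScard : Nat.card ↥(S : Subgroup ↥K) = q := by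
    have h2a : 2 ^ a ≠ 0 := by positivity
    rw [S.card_eq_multiplicity, hKcard, Nat.factorization_mul hq.ne_zero h2a, Finsupp.add_apply,
      hq.factorization_self, Nat.factorization_pow, Finsupp.smul_apply,
      Nat.prime_two.factorization, Finsupp.single_eq_of_ne hq2, smul_zero, add_zero, pow_one]
  set S' := (S : Subgroup ↥K).map K.subtype
  haveI : IsCyclic ↥(S : Subgroup ↥K) := isCyclic_of_prime_card hScard
  obtain ⟨x₀, hx₀⟩ := IsCyclic.exists_generator (α := ↥(S : Subgroup ↥K))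
  set x : G := ((x₀ : ↥K) : G)
  have hxo : orderOf x = q := by
    rw [orderOf_coe, orderOf_coe, orderOf_eq_card_of_forall_mem_zpowers hx₀, hScard]
  have hπx : π x ≠ 1 := fun h1 => by
    have h9 := (QuotientGroup.eq_one_iff x).1 h1
    obtain ⟨j, hj⟩ := hOp ⟨x, h9⟩
    have hj' : x ^ 2 ^ j = 1 := by simpa using congrArg Subtype.val hj
    have h10 : q ∣ 2 ^ j := hxo ▸ orderOf_dvd_of_pow_eq_one hj'
    exact hq2 ((Nat.prime_dvd_prime_iff_eq hq Nat.prime_two).1 (hq.dvd_of_dvd_pow h10))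
  obtain ⟨g₀, hg₀⟩ := QuotientGroup.mk'_surjective O t
  have hgK : ∀ k, k ∈ K ↔ g₀ * k * g₀⁻¹ ∈ K := by
    intro k
    show π k ∈ zpowers y ↔ π (g₀ * k * g₀⁻¹) ∈ zpowers y
    rw [map_mul, map_mul, map_inv, hg₀]
    constructor
    · intro hk
      obtain ⟨i, hi⟩ := mem_zpowers_iff.1 hk
      rw [← hi, ← conj_zpow, hty]
      exact zpow_mem (inv_mem (mem_zpowers y)) i
    · intro hk
      obtain ⟨i, hi⟩ := mem_zpowers_iff.1 hk
      have h11 : π k = t⁻¹ * (t * π k * t⁻¹) * t⁻¹⁻¹ := by group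
      rw [h11, ← hi, inv_eq_of_mul_eq_one_right htt, ← conj_zpow, hty]
      exact zpow_mem (inv_mem (mem_zpowers y)) i
  set e : ↥K ≃* ↥K :=
    { toFun := fun k => ⟨g₀ * k * g₀⁻¹, (hgK k).1 k.2⟩
      invFun := fun k => ⟨g₀⁻¹ * k * g₀, (hgK _).2 (by simpa [mul_assoc] using k.2)⟩
      left_inv := fun k => Subtype.ext (by simp [mul_assoc])
      right_inv := fun k => Subtype.ext (by simp [mul_assoc])
      map_mul' := fun k l => Subtype.ext (by simp [mul_assoc]) }
  obtain ⟨k, hk⟩ := MulAction.exists_smul_eq ↥K (S.mapSurjective (f := e.toMonoidHom) e.surjective) S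
  set x' : ↥K := k * e (x₀ : ↥K) * k⁻¹
  have hx'S : x' ∈ (S : Subgroup ↥K) := by
    rw [← hk]
    show k * e (x₀ : ↥K) * k⁻¹ ∈ MulAut.conj k • (S : Subgroup ↥K).map e.toMonoidHom
    exact Subgroup.smul_mem_pointwise_smul _ (MulAut.conj k) _ ⟨_, x₀.2, rfl⟩
  obtain ⟨i, hi⟩ := mem_zpowers_iff.1 (hx₀ ⟨x', hx'S⟩)
  have hxi : x ^ i = (k : G) * g₀ * x * ((k : G) * g₀)⁻¹ := by
    have h12 := congrArg (fun z : ↥(S : Subgroup ↥K) => ((z : ↥K) : G)) hi
    simp only [SubgroupClass.coe_zpow] at h12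
    rw [h12]
    show ((k * e (x₀ : ↥K) * k⁻¹ : ↥K) : G) = _
    simp [e, x, mul_assoc]
  refine ⟨q, hq, x, (k : G) * g₀, hq2, hxo, ?_⟩
  -- the image acts as inversion
  obtain ⟨a₁, ha₁⟩ := mem_zpowers_iff.1 (show π (k : G) ∈ zpowers y from k.2)
  obtain ⟨a₂, ha₂⟩ := mem_zpowers_iff.1 (show π x ∈ zpowers y from (x₀ : ↥K).2)
  have h13 := congrArg π hxi
  rw [map_zpow, map_mul, map_mul, map_inv, map_mul, hg₀, ← ha₁, ← ha₂] at h13
  rw [show y ^ a₁ * t * y ^ a₂ * (y ^ a₁ * t)⁻¹ = y ^ a₁ * (t * y ^ a₂ * t⁻¹) * (y ^ a₁)⁻¹ by group,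
    ← conj_zpow, hty, inv_zpow, ← zpow_neg, ← zpow_add, ← zpow_neg, ← zpow_add,
    show a₁ + -a₂ + -a₁ = -a₂ by ring, zpow_neg, ha₂] at h13
  have h14 : π x ^ (i + 1) = 1 := by rw [zpow_add_one, h13, inv_mul_cancel]
  have hox : orderOf (π x) = q := by
    have h15 : orderOf (π x) ∣ q := hxo ▸ orderOf_map_dvd π x
    exact (hq.eq_one_or_self_of_dvd _ h15).resolve_left fun h16 => hπx (orderOf_eq_one_iff.1 h16)
  have h17 : x ^ (i + 1) = 1 := by
    rw [← orderOf_dvd_iff_zpow_eq_one, hxo, ← hox, orderOf_dvd_iff_zpow_eq_one]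
    exact h14
  rw [zpow_add_one, mul_eq_one_iff_eq_inv] at h17
  rw [← hxi, h17]

/-- An inverted `p`-element shows up in the normalizer of `Z(J(T))`. -/
theorem exists_inverted_normalizer {p : ℕ} [Fact p.Prime] (hp : p ≠ 2) {x g : G}
    (hx : ∃ j : ℕ, x ^ p ^ j = 1) (hx1 : x ≠ 1) (hinv : g * x * g⁻¹ = x⁻¹) :
    ∃ (T : Sylow p G) (x' n : G), x' ∈ (T : Subgroup G) ∧ x' ≠ 1 ∧
      n ∈ normalizer (Cfsg.centerThompsonAOf (T : Subgroup G) : Set G) ∧ n * x' * n⁻¹ = x'⁻¹ := by
  obtain ⟨j, hj⟩ := hx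
  have hX : IsPGroup p ↥(zpowers x) := by
    obtain ⟨i, -, hi⟩ := (Nat.dvd_prime_pow Fact.out).1 (orderOf_dvd_of_pow_eq_one hj)
    exact IsPGroup.of_card (n := i) (by rw [Nat.card_zpowers, hi])
  obtain ⟨T, hT⟩ := hX.exists_le_sylow
  refine ⟨T, ?_⟩
  by_cases hc : Cfsg.ControlsStrongFusion p (Cfsg.centerThompsonAOf (T : Subgroup G))
  · obtain ⟨n, hn, hn'⟩ := ZJFusion.ctrl_of_controls (S := T) rfl hc g (mem_top g) (zpowers x) hT (by
      rw [ZJFusion.conj_le_iff]
      intro a ha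
      obtain ⟨i, rfl⟩ := mem_zpowers_iff.1 ha
      rw [← conj_zpow, hinv]
      exact hT (zpow_mem (inv_mem (mem_zpowers x)) i))
    exact ⟨x, n, hT (mem_zpowers x), hx1, hn, (hn' x (mem_zpowers x)).trans hinv⟩
  · obtain ⟨-, C, hCY, hCp, hidx⟩ := ZJFusion.main hp T hc
    set N := normalizer (Cfsg.centerThompsonAOf (T : Subgroup G) : Set G)
    set K₁ := N ⊓ normalizer (C : Set G)
    let ψ : ↥K₁ →* MulAut ↥C := C.normalizerMonoidHom.comp (Subgroup.inclusion inf_le_right)
    have hker : ψ.ker = (N ⊓ centralizer (C : Set G)).subgroupOf K₁ := by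
      ext h
      rw [MonoidHom.mem_ker, mem_subgroupOf, mem_inf, mem_centralizer_iff]
      constructor
      · intro h0
        refine ⟨(mem_inf.1 h.2).1, fun y hy => ?_⟩
        have h1 : ((ψ h ⟨y, hy⟩ : ↥C) : G) = h * y * (h : G)⁻¹ := rfl
        rw [h0, MulAut.one_apply] at h1
        exact (mul_inv_eq_iff_eq_mul.1 h1.symm).symm
      · intro h0
        refine MulEquiv.ext fun y => Subtype.ext ?_
        show (h : G) * y * (h : G)⁻¹ = y
        rw [← h0.2 y y.2, mul_inv_cancel_right]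
    haveI : IsCyclic ↥C := isCyclic_of_prime_card hCp
    haveI : Finite (MulAut ↥C) := Finite.of_injective _ DFunLike.coe_injective
    have hcard : Nat.card ψ.range = Nat.card (MulAut ↥C) := by
      rw [← index_ker, hker, IsCyclic.card_mulAut, hCp, Nat.totient_prime Fact.out]
      exact hidx
    have htop : ψ.range = ⊤ := Subgroup.eq_top_of_card_eq _ hcard
    obtain ⟨c, hc⟩ := IsCyclic.exists_generator (α := ↥C)
    have : IsMulCommutative ↥C := IsCyclic.isMulCommutative
    let inv : MulAut ↥C :=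
      { toFun := fun z => z⁻¹
        invFun := fun z => z⁻¹
        left_inv := inv_inv
        right_inv := inv_inv
        map_mul' := fun a b => by rw [mul_inv_rev, mul_comm'] }
    obtain ⟨h, hh⟩ : inv ∈ ψ.range := htop ▸ mem_top _
    refine ⟨c, h, ?_, ?_, (mem_inf.1 h.2).1, ?_⟩
    · exact (PLocal.thompsonSubgroupAOf_le _) (hCY c.2).1
    · intro h1
      have h2 : orderOf c = p := by rw [orderOf_eq_card_of_forall_mem_zpowers hc, hCp]
      have hc1 : c = 1 := Subtype.ext h1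
      rw [hc1, orderOf_one] at h2
      exact (Fact.out : p.Prime).ne_one h2.symm
    · have h3 := congrArg (fun f : MulAut ↥C => ((f c : ↥C) : G)) hh
      exact h3

end Cfsg.Agent.TwoClosedInverted
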